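import Groth.Agent.L23.Basic
import Groth.Prelude.Def_AlgSpGpd
import Mathlib.CategoryTheory.Monoidal.Cartesian.Grp

/-!
# Group spaces: shears and diagonals
-/

universe u

open CategoryTheory CategoryTheory.Limits AlgebraicGeometry MonoidalCategory CartesianMonoidalCategory MonObj AlgSp

set_option autoImplicit false
set_option linter.style.haveILetI false
set_option backward.isDefEq.respectTransparency false
set_option backward.isDefEq.respectTransparency.types false

noncomputable section

namespace Groth.L09.GrpSp

open Groth.L23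

variable {S : Scheme.{u}} {B : Sp S} {G X : Over B} [GrpObj G]

theorem mul_act (a : GAction G X) {T : Over B} (g h : T ⟶ G) (x : T ⟶ X) :
    lift (g * h) x ≫ a.act = lift g (lift h x ≫ a.act) ≫ a.act := by
  have h1 := congrArg (fun m => lift (lift g h) x ≫ m) a.mul_act
  simp only [lift_whiskerRight_assoc, lift_lift_associator_hom_assoc, lift_whiskerLeft_assoc] at h1
  exact h1

theorem one_act (a : GAction G X) {T : Over B} (x : T ⟶ X) :
    lift (1 : T ⟶ G) x ≫ a.act = x := by
  have h1 := congrArg (fun m => lift (toUnit T) x ≫ m) a.one_act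
  simp only [lift_whiskerRight_assoc, lift_leftUnitor_hom] at h1
  exact h1

theorem mono_shear (a : GAction G X) (ha : a.IsFree) :
    Mono (lift a.act (snd G X)).left := by
  refine mono_of_yon fun T x y e => ?_
  let β : (yon S).obj T ⟶ B := x ≫ (G ⊗ X).hom
  have hy : y ≫ (G ⊗ X).hom = β := by
    have := congrArg (· ≫ (X ⊗ X).hom) e
    simp only [Category.assoc, Over.w] at this
    exact this.symm
  let x' : Over.mk β ⟶ G ⊗ X := Over.homMk x rfl
  let y' : Over.mk β ⟶ G ⊗ X := Over.homMk y hy
  have e' : x' ≫ lift a.act (snd G X) = y' ≫ lift a.act (snd G X) := Over.OverMorphism.ext e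
  have e₁ : x' ≫ a.act = y' ≫ a.act := by simpa using e' =≫ fst X X
  have e₂ : x' ≫ snd G X = y' ≫ snd G X := by simpa using e' =≫ snd X X
  suffices x' = y' from congrArg CommaMorphism.left this
  let g := x' ≫ fst G X
  let h := y' ≫ fst G X
  let z := x' ≫ snd G X
  have hx : lift g z = x' := by apply CartesianMonoidalCategory.hom_ext <;> simp [g, z]
  have hy' : lift h z = y' := by apply CartesianMonoidalCategory.hom_ext <;> simp [h, z, e₂]
  have hact : lift g z ≫ a.act = lift h z ≫ a.act := by rw [hx, hy', e₁]
  have hone : h⁻¹ * g = 1 := by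
    refine (ha β (h⁻¹ * g) z ?_).trans ?_
    · rw [mul_act a, hact, ← mul_act a, inv_mul_cancel, one_act a]
    · rfl
  rw [← hx, ← hy', inv_mul_eq_one.1 hone]

omit [GrpObj G] in
theorem diagonal_left : (lift (𝟙 G) (𝟙 G)).left = pullback.diagonal G.hom := by
  apply pullback.hom_ext
  · rw [pullback.diagonal_fst]
    exact congrArg CommaMorphism.left (lift_fst (𝟙 G) (𝟙 G))
  · rw [pullback.diagonal_snd]
    exact congrArg CommaMorphism.left (lift_snd (𝟙 G) (𝟙 G))

/-- The diagonal is a base change of the unit section. -/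
theorem isPullback_diagonal_unit :
    IsPullback (toUnit G) (lift (𝟙 G) (𝟙 G)) η[G] (fst G G * (snd G G)⁻¹) := by
  refine IsPullback.mk' ?_ (fun T a b _ h => by simpa using h =≫ fst G G) fun T a b h => ?_
  · rw [MonObj.comp_mul, GrpObj.comp_inv, lift_fst, lift_snd, mul_inv_cancel]
    exact rfl
  · have h1 : (b ≫ fst G G) * (b ≫ snd G G)⁻¹ = 1 := by
      rw [← GrpObj.comp_inv, ← MonObj.comp_mul, ← h]
      rw [toUnit_unique a (toUnit T)]; rfl
    refine ⟨b ≫ fst G G, toUnit_unique _ _, ?_⟩
    apply CartesianMonoidalCategory.hom_ext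
    · simp
    · simpa using mul_inv_eq_one.1 h1

/-- The unit section is a base change of the diagonal. -/
theorem isPullback_unit_diagonal :
    IsPullback η[G] η[G] (lift (𝟙 G) (𝟙 G)) (lift (1 : G ⟶ G) (𝟙 G)) := by
  refine IsPullback.mk' ?_ (fun T a b _ _ => toUnit_unique a b) fun T a b h => ?_
  · apply CartesianMonoidalCategory.hom_ext
    · simp [MonObj.comp_one]
      rfl
    · simp
  · have h1 := h =≫ fst G G
    have h2 := h =≫ snd G G
    simp only [Category.assoc, lift_fst, lift_snd, Category.comp_id, MonObj.comp_one] at h1 h2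
    refine ⟨toUnit T, h1.symm, ?_⟩
    exact h1.symm.trans h2

theorem left_diagonal_unit :
    IsPullback (toUnit G).left (pullback.diagonal G.hom) (η[G]).left (fst G G * (snd G G)⁻¹).left := by
  rw [← diagonal_left (G := G)]
  exact isPullback_diagonal_unit.map (Over.forget B)

theorem left_unit_diagonal :
    IsPullback (η[G]).left (η[G]).left (pullback.diagonal G.hom) (lift (1 : G ⟶ G) (𝟙 G)).left := by
  rw [← diagonal_left (G := G)]
  exact isPullback_unit_diagonal.map (Over.forget B)

end Groth.L09.GrpSp
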