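import Groth.Agent.L09.GrpSp.Translation
import Groth.Agent.L23.MorCalc
import Groth.Agent.L23.AlgSpace

/-!
# Separation properties of `j` and of the stabilizer of a groupoid
-/

universe u

open CategoryTheory CategoryTheory.Limits AlgebraicGeometry AlgSp

set_option autoImplicit false
set_option backward.isDefEq.respectTransparency false
set_option backward.isDefEq.respectTransparency.types false

noncomputable section

namespace Groth.L09.GrpSp

open Groth.L23

variable {S : Scheme.{u}} {B : Sp S} (G : GroupoidSp B)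

theorem isPullback_stabilizer :
    IsPullback G.stabilizerι G.stabilizerToU G.j G.diag :=
  IsPullback.of_hasPullback _ _

theorem diag_fst : G.diag ≫ pullback.fst G.pU G.pU = 𝟙 G.U := pullback.lift_fst _ _ _

theorem diag_snd : G.diag ≫ pullback.snd G.pU G.pU = 𝟙 G.U := pullback.lift_snd _ _ _

theorem e_j : G.e ≫ G.j = G.diag := by
  apply pullback.hom_ext
  · rw [Category.assoc, GroupoidSp.j_fst, diag_fst, G.e_t]
  · rw [Category.assoc, GroupoidSp.j_snd, diag_snd, G.e_s]

variable {G} {eG : G.U ⟶ G.stabilizer} (heG : eG ≫ G.stabilizerι = G.e)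
include heG

theorem eG_toU : eG ≫ G.stabilizerToU = 𝟙 G.U := by
  have h := congrArg (fun m => eG ≫ m) (isPullback_stabilizer G).w
  rw [reassoc_of% heG, e_j] at h
  have h' := h =≫ pullback.fst G.pU G.pU
  simp only [Category.assoc, diag_fst, Category.comp_id] at h'
  exact h'.symm

/-- The unit section is a base change of the diagonal of the stabilizer over `U`. -/
theorem isPullback_eG :
    IsPullback eG eG (pullback.diagonal G.stabilizerToU)
      (pullback.lift (G.stabilizerToU ≫ eG) (𝟙 _)
        (by rw [Category.assoc, eG_toU heG, Category.comp_id, Category.id_comp]) :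
          G.stabilizer ⟶ pullback.diagonalObj G.stabilizerToU) := by
  refine IsPullback.mk' ?_ ?_ ?_
  · apply pullback.hom_ext <;> simp [reassoc_of% eG_toU heG]
  · intro T φ φ' h _
    simpa [eG_toU heG] using h =≫ G.stabilizerToU
  · intro T a b h
    have h₁ := h =≫ pullback.fst _ _
    have h₂ := h =≫ pullback.snd _ _
    simp at h₁ h₂
    refine ⟨b ≫ G.stabilizerToU, ?_, ?_⟩
    · rw [Category.assoc]; exact h₁.symm
    · rw [Category.assoc]; exact h₁.symm.trans h₂

theorem repWith_eG {P : MorphismProperty Scheme.{u}}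
    (h : RepWith P (pullback.diagonal G.stabilizerToU)) : RepWith P eG :=
  repWith_of_isPullback (isPullback_eG heG) h

/-- The diagonal of `j` is a base change of the unit section. -/
theorem repWith_diagonal_j {P : MorphismProperty Scheme.{u}} (h : RepWith P eG) :
    RepWith P (pullback.diagonal G.j) := by
  let α : pullback.diagonalObj G.j ⟶ G.R := pullback.fst G.j G.j
  let β : pullback.diagonalObj G.j ⟶ G.R := pullback.snd G.j G.j
  have hj : α ≫ G.j = β ≫ G.j := pullback.condition
  have ht : α ≫ G.t = β ≫ G.t := by simpa using hj =≫ pullback.fst G.pU G.pU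
  have hs : α ≫ G.s = β ≫ G.s := by simpa using hj =≫ pullback.snd G.pU G.pU
  have hc : α ≫ G.s = (β ≫ G.i) ≫ G.t := by rw [Category.assoc, G.i_t, hs]
  have hw : cmul G α (β ≫ G.i) hc ≫ G.j = (α ≫ G.t) ≫ G.diag := by
    apply pullback.hom_ext
    · rw [Category.assoc, GroupoidSp.j_fst, Category.assoc (α ≫ G.t), diag_fst, Category.comp_id]
      exact G.comp_t _ _ hc
    · rw [Category.assoc, GroupoidSp.j_snd, Category.assoc (α ≫ G.t), diag_snd, Category.comp_id]
      exact (G.comp_s _ _ hc).trans (by rw [Category.assoc, G.i_s, ht])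
  let δ : pullback.diagonalObj G.j ⟶ G.stabilizer := (isPullback_stabilizer G).lift _ _ hw
  have hδ₁ : δ ≫ G.stabilizerι = cmul G α (β ≫ G.i) hc := IsPullback.lift_fst _ _ _ _
  have hδ₂ : δ ≫ G.stabilizerToU = α ≫ G.t := IsPullback.lift_snd _ _ _ _
  have dα : pullback.diagonal G.j ≫ α = 𝟙 _ := pullback.diagonal_fst _
  have dβ : pullback.diagonal G.j ≫ β = 𝟙 _ := pullback.diagonal_snd _
  refine repWith_of_isPullback (a := G.t) (b := δ) ?_ h
  refine IsPullback.mk' ?_ ?_ ?_
  · apply (isPullback_stabilizer G).hom_ext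
    · simp only [Category.assoc, hδ₁, heG]
      rw [comp_cmul]
      refine Eq.symm ((cmul_congr G (α' := 𝟙 G.R) (β' := 𝟙 G.R ≫ G.i)
        (h' := by rw [Category.assoc, G.i_t]) dα (by rw [reassoc_of% dβ, Category.id_comp])).trans ?_)
      exact (G.comp_i (𝟙 _)).trans (Category.id_comp _)
    · simp only [Category.assoc, hδ₂, eG_toU heG, Category.comp_id, reassoc_of% dα]
  · intro T φ φ' _ h₂
    simpa [Category.assoc, dα] using h₂ =≫ α
  · intro T a b hab
    have ha : a = (b ≫ α) ≫ G.t := by
      simpa [eG_toU heG, hδ₂] using hab =≫ G.stabilizerToU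
    obtain ⟨x, hx⟩ : ∃ x, x = b ≫ α := ⟨_, rfl⟩
    obtain ⟨y, hy⟩ : ∃ y, y = b ≫ β := ⟨_, rfl⟩
    rw [← hx] at ha
    have hxt : x ≫ G.t = y ≫ G.t := by simp only [hx, hy, Category.assoc, ht]
    have hxs : x ≫ G.s = y ≫ G.s := by simp only [hx, hy, Category.assoc, hs]
    have h₁ : x ≫ G.s = (y ≫ G.i) ≫ G.t := by rw [Category.assoc, G.i_t, hxs]
    have h₂ : (y ≫ G.i) ≫ G.s = y ≫ G.t := by rw [Category.assoc, G.i_s]
    have hunit : cmul G x (y ≫ G.i) h₁ = y ≫ G.t ≫ G.e := by
      have := hab =≫ G.stabilizerι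
      simp only [Category.assoc, hδ₁, heG] at this
      rw [comp_cmul] at this
      rw [← Category.assoc y, ← hxt, ← ha]
      exact (cmul_congr G hx (by rw [hy, Category.assoc])).trans this.symm
    have hxy : x = y :=
      calc x = cmul G x (x ≫ G.s ≫ G.e)
              (by rw [Category.assoc, Category.assoc, G.e_t, Category.comp_id]) := (G.comp_e x).symm
        _ = cmul G x (cmul G (y ≫ G.i) y h₂) (h₁.trans (G.comp_t _ _ h₂).symm) :=
              cmul_congr G rfl ((G.i_comp y).trans (by rw [← Category.assoc, ← hxs, Category.assoc])).symm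
        _ = cmul G (cmul G x (y ≫ G.i) h₁) y ((G.comp_s _ _ h₁).trans h₂) := (G.assoc _ _ _ h₁ h₂).symm
        _ = cmul G (y ≫ G.t ≫ G.e) y
              (by rw [Category.assoc, Category.assoc, G.e_s, Category.comp_id]) := cmul_congr G hunit rfl
        _ = y := G.e_comp y
    refine ⟨x, ha.symm, ?_⟩
    apply pullback.hom_ext
    · exact (Category.assoc _ _ _).trans (by rw [dα, Category.comp_id, hx])
    · exact (Category.assoc _ _ _).trans (by rw [dβ, Category.comp_id, hxy, hy])

omit heG in
theorem repWith_diagonal_stabilizer {P : MorphismProperty Scheme.{u}}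
    (h : RepWith P (pullback.diagonal G.j)) : RepWith P (pullback.diagonal G.stabilizerToU) :=
  repWith_of_isPullback (isPullback_diagonal (isPullback_stabilizer G)) h

theorem representable_eG (hB : IsAlgSpace B) (hU : IsAlgSpace G.U) (hR : IsAlgSpace G.R) :
    Representable eG :=
  representable_of_isPullback (isPullback_eG heG)
    (diagonal_properties (isAlgSpace_of_isPullback
      (representable_diag_of_isPullback hB.diag hU.diag hU.diag (IsPullback.of_hasPullback G.pU G.pU))
      hR hU (isPullback_stabilizer G)) _).1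

end Groth.L09.GrpSp
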