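import Groth.Prelude.Def_AlgSpGpd

/-!
# Translations in groupoid sheaves
-/

universe u

open CategoryTheory CategoryTheory.Limits AlgebraicGeometry AlgSp

set_option autoImplicit false
set_option linter.style.haveILetI false
set_option backward.isDefEq.respectTransparency false
set_option backward.isDefEq.respectTransparency.types false

noncomputable section

namespace Groth.L09.GrpSp

variable {S : Scheme.{u}} {B : Sp S} (G : GroupoidSp B) {T : Sp S}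

/-- The composite of two arrows. -/
abbrev cmul (α β : T ⟶ G.R) (h : α ≫ G.s = β ≫ G.t) : T ⟶ G.R := pullback.lift α β h ≫ G.c

theorem cmul_congr {α α' β β' : T ⟶ G.R} {h : α ≫ G.s = β ≫ G.t} {h' : α' ≫ G.s = β' ≫ G.t}
    (e₁ : α = α') (e₂ : β = β') : cmul G α β h = cmul G α' β' h' := by
  subst e₁ e₂
  rfl

theorem comp_cmul {T' : Sp S} (g : T' ⟶ T) (α β : T ⟶ G.R) (h : α ≫ G.s = β ≫ G.t) :
    g ≫ cmul G α β h = cmul G (g ≫ α) (g ≫ β) (by rw [Category.assoc, Category.assoc, h]) := by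
  rw [← Category.assoc]
  congr 1
  apply pullback.hom_ext <;> simp

theorem isIso_translation (a : G.U ⟶ G.R) (ha : a ≫ G.s = 𝟙 G.U) [IsIso (a ≫ G.t)]
    (h : (G.t ≫ a) ≫ G.s = 𝟙 G.R ≫ G.t) : IsIso (cmul G (G.t ≫ a) (𝟙 G.R) h) := by
  let a' : G.U ⟶ G.R := inv (a ≫ G.t) ≫ a ≫ G.i
  have ha' : a' ≫ G.s = 𝟙 G.U := by simp [a', G.i_s]
  have ha't : a' ≫ G.t = inv (a ≫ G.t) := by
    simp only [a', Category.assoc, G.i_t, ha, Category.comp_id]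
  have h' : (G.t ≫ a') ≫ G.s = 𝟙 G.R ≫ G.t := by rw [Category.assoc, ha', Category.comp_id, Category.id_comp]
  have hLt : cmul G (G.t ≫ a) (𝟙 G.R) h ≫ G.t = G.t ≫ a ≫ G.t := (G.comp_t _ _ h).trans (Category.assoc _ _ _)
  have hL't : cmul G (G.t ≫ a') (𝟙 G.R) h' ≫ G.t = G.t ≫ inv (a ≫ G.t) := by
    rw [G.comp_t _ _ h', Category.assoc, ha't]
  refine ⟨cmul G (G.t ≫ a') (𝟙 G.R) h', ?_, ?_⟩
  · rw [comp_cmul]
    have e₁ : cmul G (G.t ≫ a) (𝟙 G.R) h ≫ G.t ≫ a' = (G.t ≫ a) ≫ G.i := by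
      rw [← Category.assoc, hLt]
      simp only [a', Category.assoc]
      rw [← Category.assoc a G.t, IsIso.hom_inv_id_assoc]
    have h₁ : ((G.t ≫ a) ≫ G.i) ≫ G.s = (G.t ≫ a) ≫ G.t := by rw [Category.assoc, G.i_s]
    rw [cmul_congr G (α' := (G.t ≫ a) ≫ G.i) (β' := cmul G (G.t ≫ a) (𝟙 G.R) h)
      (h' := h₁.trans (G.comp_t _ _ h).symm) e₁ (Category.comp_id _)]
    refine ((G.assoc _ _ _ h₁ h).symm).trans ?_
    refine (cmul_congr G (α' := 𝟙 G.R ≫ G.t ≫ G.e) (β' := 𝟙 G.R) (h' := by simp [G.e_s]) ?_ rfl).trans (G.e_comp _)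
    rw [G.i_comp]
    simp [reassoc_of% ha]
  · rw [comp_cmul]
    let α := G.t ≫ inv (a ≫ G.t) ≫ a
    have e₁ : cmul G (G.t ≫ a') (𝟙 G.R) h' ≫ G.t ≫ a = α := by rw [← Category.assoc, hL't, Category.assoc]
    have e₂ : G.t ≫ a' = α ≫ G.i := by simp [α, a']
    have h₁ : α ≫ G.s = (α ≫ G.i) ≫ G.t := by simp only [Category.assoc, G.i_t]
    have h₂ : (α ≫ G.i) ≫ G.s = 𝟙 G.R ≫ G.t := e₂ ▸ h'
    rw [cmul_congr G (α' := α) (β' := cmul G (α ≫ G.i) (𝟙 G.R) h₂)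
      (h' := h₁.trans (G.comp_t _ _ h₂).symm) e₁ ((Category.comp_id _).trans (cmul_congr G e₂ rfl))]
    refine ((G.assoc _ _ _ h₁ h₂).symm).trans ?_
    refine (cmul_congr G (α' := 𝟙 G.R ≫ G.t ≫ G.e) (β' := 𝟙 G.R) (h' := by simp [G.e_s]) ?_ rfl).trans (G.e_comp _)
    rw [G.comp_i]
    simp only [α, Category.assoc, Category.id_comp]
    congr 1
    rw [← Category.assoc a G.t, IsIso.inv_hom_id_assoc]

theorem e_translation (a : G.U ⟶ G.R) (ha : a ≫ G.s = 𝟙 G.U) (h : (G.t ≫ a) ≫ G.s = 𝟙 G.R ≫ G.t) :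
    G.e ≫ cmul G (G.t ≫ a) (𝟙 G.R) h = a := by
  rw [comp_cmul]
  refine (cmul_congr G (α' := a) (β' := a ≫ G.s ≫ G.e) (h' := by simp [G.e_t]) ?_ ?_).trans (G.comp_e a)
  · rw [reassoc_of% G.e_t]
  · rw [reassoc_of% ha, Category.comp_id]

end Groth.L09.GrpSp
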